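import Groth.Agent.BinForm.Mul

/-!
# The iterated multiplication `(P^1)^n ⟶ P^n`
-/

set_option linter.style.haveILetI false
set_option backward.isDefEq.respectTransparency false
set_option backward.isDefEq.respectTransparency.types false

universe u

open AlgebraicGeometry HomogeneousLocalization CategoryTheory CategoryTheory.Limits MvPolynomial

namespace Groth.Agent.BinForm

open Groth.Agent.ProjPt Groth.Agent.SegreX

/-- base change to any scheme -/
theorem exists_mulS (S : Scheme.{u}) (m : ℕ) :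
    ∃ φ : pullback (CohB1.ProjSpaceOver.toBase 1 S) (CohB1.ProjSpaceOver.toBase m S) ⟶ CohB1.ProjSpaceOver (m + 1) S,
      IsFinite φ ∧ Surjective φ ∧ φ ≫ CohB1.ProjSpaceOver.toBase (m + 1) S =
        pullback.fst (CohB1.ProjSpaceOver.toBase 1 S) (CohB1.ProjSpaceOver.toBase m S) ≫ CohB1.ProjSpaceOver.toBase 1 S := by
  let p₁ := CohB1.ProjSpaceOver.toBase 1 S
  let pm := CohB1.ProjSpaceOver.toBase m S
  let pN := CohB1.ProjSpaceOver.toBase (m + 1) S
  let a₁ : CohB1.ProjSpaceOver 1 S ⟶ PZ.{u} 1 := pullback.fst _ _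
  let am : CohB1.ProjSpaceOver m S ⟶ PZ.{u} m := pullback.fst _ _
  let aN : CohB1.ProjSpaceOver (m + 1) S ⟶ PZ.{u} (m + 1) := pullback.fst _ _
  let toP : pullback p₁ pm ⟶ PP.{u} 1 m :=
    pullback.lift (pullback.fst p₁ pm ≫ a₁) (pullback.snd p₁ pm ≫ am) (specULiftZIsTerminal.hom_ext _ _)
  let φ : pullback p₁ pm ⟶ CohB1.ProjSpaceOver (m + 1) S :=
    pullback.lift (toP ≫ mul m) (pullback.fst p₁ pm ≫ p₁) (specULiftZIsTerminal.hom_ext _ _)
  have hp1 : φ ≫ aN = toP ≫ mul m := pullback.lift_fst _ _ _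
  have hp2 : φ ≫ pN = pullback.fst p₁ pm ≫ p₁ := pullback.lift_snd _ _ _
  -- the three squares over the integers
  have h₁ : IsPullback a₁ p₁ (specULiftZIsTerminal.from (PZ.{u} 1)) (specULiftZIsTerminal.from S) := by
    rw [specULiftZIsTerminal.hom_ext (specULiftZIsTerminal.from (PZ.{u} 1)) (CohB1.ProjSpace.toSpec 1 _)]
    exact IsPullback.of_hasPullback _ _
  have hm : IsPullback am pm (specULiftZIsTerminal.from (PZ.{u} m)) (specULiftZIsTerminal.from S) := by
    rw [specULiftZIsTerminal.hom_ext (specULiftZIsTerminal.from (PZ.{u} m)) (CohB1.ProjSpace.toSpec m _)]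
    exact IsPullback.of_hasPullback _ _
  have hN : IsPullback aN pN (specULiftZIsTerminal.from (PZ.{u} (m + 1))) (specULiftZIsTerminal.from S) := by
    rw [specULiftZIsTerminal.hom_ext (specULiftZIsTerminal.from (PZ.{u} (m + 1))) (CohB1.ProjSpace.toSpec (m + 1) _)]
    exact IsPullback.of_hasPullback _ _
  let q₁ : PP.{u} 1 m ⟶ PZ.{u} 1 := pullback.fst _ _
  let qm : PP.{u} 1 m ⟶ PZ.{u} m := pullback.snd _ _
  have ht1 : toP ≫ q₁ = pullback.fst p₁ pm ≫ a₁ := pullback.lift_fst _ _ _
  have ht2 : toP ≫ qm = pullback.snd p₁ pm ≫ am := pullback.lift_snd _ _ _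
  have hA : IsPullback (pullback.fst p₁ pm ≫ a₁) (pullback.snd p₁ pm)
      (specULiftZIsTerminal.from (PZ.{u} 1)) (pm ≫ specULiftZIsTerminal.from S) :=
    (IsPullback.of_hasPullback p₁ pm).paste_horiz h₁
  have hB : IsPullback toP (pullback.snd p₁ pm) qm am := by
    refine IsPullback.of_right ?_ ht2 (IsPullback.of_hasPullback (specULiftZIsTerminal.from (PZ.{u} 1))
      (specULiftZIsTerminal.from (PZ.{u} m)))
    show IsPullback (toP ≫ q₁) _ _ _
    rw [ht1, specULiftZIsTerminal.hom_ext (am ≫ specULiftZIsTerminal.from (PZ.{u} m)) (pm ≫ specULiftZIsTerminal.from S)]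
    exact hA
  have hC : IsPullback toP (φ ≫ pN) (mul m ≫ specULiftZIsTerminal.from (PZ.{u} (m + 1)))
      (specULiftZIsTerminal.from S) := by
    have h := hB.paste_vert hm
    rw [show φ ≫ pN = pullback.snd p₁ pm ≫ pm from hp2.trans pullback.condition,
      specULiftZIsTerminal.hom_ext (mul m ≫ specULiftZIsTerminal.from (PZ.{u} (m + 1)))
        (qm ≫ specULiftZIsTerminal.from (PZ.{u} m))]
    exact h
  have sq : IsPullback toP φ (mul m) aN := IsPullback.of_bot hC hp1.symm hN
  exact ⟨φ, MorphismProperty.of_isPullback sq (isFinite_mul m),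
    MorphismProperty.of_isPullback sq (surjective_mul m), hp2⟩

/-- `P^0` is the base -/
theorem isIso_toSpec_zero : IsIso (CohB1.ProjSpace.toSpec 0 (ULift.{u} ℤ)) := by
  have hsurj : Surjective (chart.{u} 0 0) := ⟨fun x => by
    obtain ⟨i, y, hy⟩ := exists_mem_chart x
    obtain rfl : i = 0 := Fin.ext (by omega)
    exact ⟨y, hy⟩⟩
  haveI : IsIso (chart.{u} 0 0) := (isIso_iff_isOpenImmersion_and_surjective _).2 ⟨inferInstance, hsurj⟩
  have hu : eval₂Hom (RingHom.id (ULift.{u} ℤ)) (fun _ => (1 : ULift.{u} ℤ)) (X (0 : Fin (0 + 1))) = 1 := eval₂Hom_X' _ _ _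
  let back := coordHom (CohB1.polyGrading 0 (ULift.{u} ℤ)) (eval₂Hom (RingHom.id (ULift.{u} ℤ)) fun _ => (1 : ULift.{u} ℤ))
    (t := X (0 : Fin (0 + 1))) (by rw [hu]; exact isUnit_one)
  let z : ULift.{u} ℤ →+* chartRing.{u} 0 0 := z0 _
  have h1 : z.comp back = RingHom.id _ := by
    refine away_ext _ _ _ ((z0_eq _).trans (z0_eq _).symm) fun l => ?_
    obtain rfl : l = 0 := Fin.ext (by omega)
    rw [crd_self, map_one, map_one]
  have h2 : back.comp z = RingHom.id _ := (z0_eq _).trans (z0_eq _).symm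
  haveI : IsIso (CommRingCat.ofHom z) := ⟨CommRingCat.ofHom back, CommRingCat.hom_ext h2, CommRingCat.hom_ext h1⟩
  have he : chart.{u} 0 0 ≫ CohB1.ProjSpace.toSpec 0 (ULift.{u} ℤ) = Spec.map (CommRingCat.ofHom z) :=
    specULiftZIsTerminal.hom_ext _ _
  haveI : IsIso (chart.{u} 0 0 ≫ CohB1.ProjSpace.toSpec 0 (ULift.{u} ℤ)) := by rw [he]; infer_instance
  exact IsIso.of_isIso_comp_left (chart.{u} 0 0) _

/-- The iterated multiplication. -/
theorem exists_iter (S : Scheme.{u}) (n : ℕ) :
    ∃ φ : widePullback S (fun _ : Fin n => CohB1.ProjSpaceOver 1 S) (fun _ => CohB1.ProjSpaceOver.toBase 1 S) ⟶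
        CohB1.ProjSpaceOver n S,
      IsFinite φ ∧ Surjective φ ∧
        φ ≫ CohB1.ProjSpaceOver.toBase n S = WidePullback.base (fun _ => CohB1.ProjSpaceOver.toBase 1 S) := by
  induction n with
  | zero =>
    haveI := isIso_toSpec_zero.{u}
    haveI : IsIso (CohB1.ProjSpaceOver.toBase 0 S) :=
      inferInstanceAs (IsIso (pullback.snd (CohB1.ProjSpace.toSpec 0 (ULift.{u} ℤ)) (specULiftZIsTerminal.from S)))
    let b := WidePullback.base (fun _ : Fin 0 => CohB1.ProjSpaceOver.toBase 1 S)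
    haveI : IsIso b := ⟨WidePullback.lift (𝟙 S) (fun i => Fin.elim0 i) (fun i => Fin.elim0 i),
      WidePullback.hom_ext _ _ _ (fun i => Fin.elim0 i) (by rw [Category.assoc, WidePullback.lift_base, Category.comp_id, Category.id_comp]),
      WidePullback.lift_base _ _ _ _⟩
    exact ⟨b ≫ inv (CohB1.ProjSpaceOver.toBase 0 S), inferInstance, inferInstance, by
      rw [Category.assoc, IsIso.inv_hom_id, Category.comp_id]⟩
  | succ n ih =>
    obtain ⟨φ, hfin, hsurj, hφ⟩ := ih
    obtain ⟨μ, hμf, hμs, hμ⟩ := exists_mulS S n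
    let p₁ := CohB1.ProjSpaceOver.toBase 1 S
    let bn := WidePullback.base (fun _ : Fin n => p₁)
    let e : widePullback S (fun _ : Fin (n + 1) => CohB1.ProjSpaceOver 1 S) (fun _ => p₁) ⟶ pullback p₁ bn :=
      pullback.lift (WidePullback.π (fun _ => p₁) 0)
        (WidePullback.lift (WidePullback.base (fun _ => p₁)) (fun i => WidePullback.π (fun _ => p₁) i.succ)
          (fun i => WidePullback.π_arrow _ _))
        (by rw [WidePullback.lift_base, WidePullback.π_arrow])
    haveI : IsIso e := by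
      refine ⟨WidePullback.lift (pullback.fst p₁ bn ≫ p₁)
        (Fin.cases (pullback.fst p₁ bn) fun i => pullback.snd p₁ bn ≫ WidePullback.π (fun _ => p₁) i)
        (Fin.cases (by simp) fun i => by simp [pullback.condition, bn]), ?_, ?_⟩
      · refine WidePullback.hom_ext _ _ _ (fun i => ?_) ?_
        · cases i using Fin.cases <;> simp [e, p₁]
        · simp [e, p₁]
      · refine pullback.hom_ext ?_ (WidePullback.hom_ext _ _ _ (fun i => ?_) ?_)
        · rw [Category.assoc, pullback.lift_fst, WidePullback.lift_π, Category.id_comp, Fin.cases_zero]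
        · simp [e]
        · simp [e, bn, pullback.condition]
    let φ₁ := pullback.map p₁ bn p₁ (CohB1.ProjSpaceOver.toBase n S) (𝟙 _) φ (𝟙 S) (by simp [p₁]) (by simp [bn, p₁, hφ])
    haveI : IsFinite φ₁ := MorphismProperty.pullback_map (P := @IsFinite) inferInstance hfin (Category.id_comp p₁).symm hφ.symm
    haveI : Surjective φ₁ := MorphismProperty.pullback_map (P := @Surjective) inferInstance hsurj (Category.id_comp p₁).symm hφ.symm
    refine ⟨e ≫ φ₁ ≫ μ, inferInstance, inferInstance, ?_⟩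
    rw [Category.assoc, Category.assoc, hμ, pullback.lift_fst_assoc, Category.comp_id, pullback.lift_fst_assoc,
      WidePullback.π_arrow]

end Groth.Agent.BinForm
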