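import Groth.Agent.SegreX.Basic
import Groth.Agent.PnCoh.Chow.Proper
import Mathlib.AlgebraicGeometry.Morphisms.Proper
import Mathlib.Algebra.Polynomial.BigOperators
import Mathlib.FieldTheory.IsAlgClosed.AlgebraicClosure

/-!
# Multiplication of binary forms `P^1 × P^m ⟶ P^{m+1}` over the integers
-/

set_option linter.style.haveILetI false
set_option backward.isDefEq.respectTransparency false
set_option backward.isDefEq.respectTransparency.types false

universe u

open AlgebraicGeometry HomogeneousLocalization CategoryTheory CategoryTheory.Limits MvPolynomial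

namespace Groth.Agent.BinForm

open Groth.Agent.ProjPt Groth.Agent.SegreX

variable {m : ℕ}

/-- The pairs of degrees adding to `k`. -/
def pairs (m k : ℕ) : Finset (Fin (1 + 1) × Fin (m + 1)) :=
  Finset.univ.filter fun ab => (ab.1 : ℕ) + ab.2 = k

/-- The coefficients of a product. -/
def mulCoeff {A : Type*} [CommRing A] (a : Fin (1 + 1) → A) (b : Fin (m + 1) → A) (k : Fin (m + 1 + 1)) : A :=
  ∑ ab ∈ pairs m k, a ab.1 * b ab.2

theorem map_mulCoeff {A B : Type*} [CommRing A] [CommRing B] (φ : A →+* B) (a : Fin (1 + 1) → A)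
    (b : Fin (m + 1) → A) (k : Fin (m + 1 + 1)) :
    φ (mulCoeff a b k) = mulCoeff (fun i => φ (a i)) (fun i => φ (b i)) k := by
  simp [mulCoeff, map_sum, map_mul]

theorem mulCoeff_scale {A : Type*} [CommRing A] (c d : A) (a a' : Fin (1 + 1) → A) (b b' : Fin (m + 1) → A)
    (ha : ∀ i, a' i = c * a i) (hb : ∀ i, b' i = d * b i) (k : Fin (m + 1 + 1)) :
    mulCoeff a' b' k = c * d * mulCoeff a b k := by
  rw [mulCoeff, mulCoeff, Finset.mul_sum]
  exact Finset.sum_congr rfl fun ab _ => by rw [ha, hb]; ring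

/-- the polynomial with given coefficients -/
noncomputable def toPoly {A : Type*} [CommRing A] {r : ℕ} (a : Fin (r + 1) → A) : Polynomial A :=
  ∑ i : Fin (r + 1), Polynomial.monomial (i : ℕ) (a i)

theorem coeff_toPoly {A : Type*} [CommRing A] {r : ℕ} (a : Fin (r + 1) → A) (i : Fin (r + 1)) :
    (toPoly a).coeff i = a i := by
  classical
  simp [toPoly, Polynomial.finset_sum_coeff, Polynomial.coeff_monomial, Fin.val_inj]

theorem toPoly_eq {A : Type*} [CommRing A] {r : ℕ} (F : Polynomial A) (hF : F.natDegree ≤ r) :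
    toPoly (fun i : Fin (r + 1) => F.coeff i) = F := by
  conv_rhs => rw [F.as_sum_range' (r + 1) (by omega)]
  rw [toPoly, Finset.sum_fin_eq_sum_range]
  exact Finset.sum_congr rfl fun i hi => by rw [dif_pos (Finset.mem_range.1 hi)]

theorem coeff_mul_toPoly {A : Type*} [CommRing A] (a : Fin (1 + 1) → A) (b : Fin (m + 1) → A)
    (k : Fin (m + 1 + 1)) : (toPoly a * toPoly b).coeff k = mulCoeff a b k := by
  classical
  rw [toPoly, toPoly, Finset.sum_mul_sum, ← Fintype.sum_prod_type', Polynomial.finset_sum_coeff, mulCoeff, pairs,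
    Finset.sum_filter]
  exact Finset.sum_congr rfl fun ab _ => by rw [Polynomial.monomial_mul_monomial, Polynomial.coeff_monomial]

theorem exists_mulCoeff_ne_zero {K : Type*} [Field K] (a : Fin (1 + 1) → K) (b : Fin (m + 1) → K)
    {i : Fin (1 + 1)} (hi : a i = 1) {j : Fin (m + 1)} (hj : b j = 1) : ∃ k, mulCoeff a b k ≠ 0 := by
  classical
  have ha : toPoly a ≠ 0 := fun h => by
    have := coeff_toPoly a i
    rw [h, Polynomial.coeff_zero, hi] at this
    exact zero_ne_one this
  have hb : toPoly b ≠ 0 := fun h => by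
    have := coeff_toPoly b j
    rw [h, Polynomial.coeff_zero, hj] at this
    exact zero_ne_one this
  by_contra hall
  push Not at hall
  refine mul_ne_zero ha hb (Polynomial.ext fun l => ?_)
  rw [Polynomial.coeff_zero]
  by_cases hl : l < m + 1 + 1
  · exact (coeff_mul_toPoly a b ⟨l, hl⟩).trans (hall _)
  · rw [toPoly, toPoly, Finset.sum_mul_sum, ← Fintype.sum_prod_type', Polynomial.finset_sum_coeff]
    refine Finset.sum_eq_zero fun ab _ => ?_
    rw [Polynomial.monomial_mul_monomial, Polynomial.coeff_monomial, if_neg]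
    have := ab.1.2
    have := ab.2.2
    omega

/-- factoring off a linear form -/
theorem exists_factor {K : Type*} [Field K] [IsAlgClosed K] (c : Fin (m + 1 + 1) → K) {k : Fin (m + 1 + 1)}
    (hk : c k ≠ 0) :
    ∃ (a : Fin (1 + 1) → K) (b : Fin (m + 1) → K) (i : Fin (1 + 1)) (j : Fin (m + 1)),
      a i ≠ 0 ∧ b j ≠ 0 ∧ ∀ l, mulCoeff a b l = c l := by
  classical
  let F := toPoly c
  have hFdeg : F.natDegree ≤ m + 1 := by
    refine Polynomial.natDegree_sum_le_of_forall_le _ _ fun i _ => ?_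
    exact (Polynomial.natDegree_monomial_le _).trans (by omega)
  have key : ∀ G : Polynomial K, G.natDegree ≤ m → ∀ a : Fin (1 + 1) → K, toPoly a * G = F →
      ∃ (b : Fin (m + 1) → K) (j : Fin (m + 1)), b j ≠ 0 ∧ ∀ l, mulCoeff a b l = c l := by
    intro G hG a haG
    refine ⟨fun i => G.coeff i, ?_⟩
    have h1 : ∀ l, mulCoeff a (fun i : Fin (m + 1) => G.coeff i) l = c l := fun l => by
      rw [← coeff_mul_toPoly, toPoly_eq G hG, haG, coeff_toPoly]
    by_contra hne
    push Not at hne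
    obtain ⟨l, hl⟩ : ∃ l, mulCoeff a (fun i : Fin (m + 1) => G.coeff i) l ≠ c l := by
      by_contra hall
      push Not at hall
      have hz : ∀ j : Fin (m + 1), G.coeff j = 0 := fun j => by
        by_contra h
        obtain ⟨l, hl⟩ := hne j h
        exact hl (hall l)
      exact hk (by rw [← h1 k]; simp [mulCoeff, hz])
    exact hl (h1 l)
  by_cases hd : F.natDegree ≤ m
  · obtain ⟨b, j, hj, hb⟩ := key F hd ![1, 0] (by simp [toPoly, Fin.sum_univ_two])
    exact ⟨![1, 0], b, 0, j, by simp, hj, hb⟩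
  · have hd1 : F.natDegree = m + 1 := by omega
    obtain ⟨r, hr⟩ := IsAlgClosed.exists_root F (fun h => by
      rw [Polynomial.degree_eq_natDegree (fun h0 => by simp [h0] at hd1), hd1] at h
      have : m + 1 = 0 := by exact_mod_cast h
      omega)
    obtain ⟨G, hG⟩ := Polynomial.dvd_iff_isRoot.2 hr
    have hGd : G.natDegree ≤ m := by
      have hG0 : G ≠ 0 := fun h => by simp [h] at hG; simp [hG] at hd1
      rw [hG, Polynomial.natDegree_mul (Polynomial.X_sub_C_ne_zero r) hG0, Polynomial.natDegree_X_sub_C] at hd1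
      omega
    obtain ⟨b, j, hj, hb⟩ := key G hGd ![-r, 1] (by
      rw [hG]; congr 1; simp [toPoly, Fin.sum_univ_two, ← Polynomial.C_mul_X_pow_eq_monomial]; ring)
    exact ⟨![-r, 1], b, 1, j, by simp, hj, hb⟩

variable (m)

/-- the numbering of the coordinates of the Segre embedding -/
noncomputable def segEquiv : Fin (1 * m + 1 + m + 1) ≃ Fin (1 + 1) × Fin (m + 1) :=
  (finProdFinEquiv.trans (finCongr (by ring : (1 + 1) * (m + 1) = 1 * m + 1 + m + 1))).symm

/-- the linear form giving the `k`-th coefficient -/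
noncomputable def form (k : Fin (m + 1 + 1)) : MvPolynomial (Fin (1 * m + 1 + m + 1)) (ULift.{u} ℤ) :=
  ∑ ab ∈ pairs m k, X ((segEquiv m).symm ab)

theorem form_mem (k : Fin (m + 1 + 1)) : form.{u} m k ∈ CohB1.polyGrading (1 * m + 1 + m) (ULift.{u} ℤ) 1 :=
  Submodule.sum_mem _ fun _ _ => X_mem _

/-- a product chart -/
noncomputable abbrev Chart2 (ij : Fin (1 + 1) × Fin (m + 1)) : Scheme.{u} :=
  pullback (specULiftZIsTerminal.from (Spec (chartRing.{u} 1 ij.1)))
    (specULiftZIsTerminal.from (Spec (chartRing.{u} m ij.2)))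

variable {m}

/-- the coefficients on a product chart -/
noncomputable def cc {W : Scheme.{u}} {i : Fin (1 + 1)} {j : Fin (m + 1)}
    (p : W ⟶ Spec (chartRing.{u} 1 i)) (q : W ⟶ Spec (chartRing.{u} m j)) (k : Fin (m + 1 + 1)) : Γ(W, ⊤) :=
  mulCoeff (coords p) (coords q) k

theorem cc_comp {W W' : Scheme.{u}} (g : W' ⟶ W) {i : Fin (1 + 1)} {j : Fin (m + 1)}
    (p : W ⟶ Spec (chartRing.{u} 1 i)) (q : W ⟶ Spec (chartRing.{u} m j)) (k : Fin (m + 1 + 1)) :
    cc (g ≫ p) (g ≫ q) k = g.appTop (cc p q k) := by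
  rw [cc, cc]
  exact (map_mulCoeff g.appTop.hom (coords p) (coords q) k).symm

theorem cc_scale {W : Scheme.{u}} {i i' : Fin (1 + 1)} {j j' : Fin (m + 1)}
    (p : W ⟶ Spec (chartRing.{u} 1 i)) (q : W ⟶ Spec (chartRing.{u} m j))
    (p' : W ⟶ Spec (chartRing.{u} 1 i')) (q' : W ⟶ Spec (chartRing.{u} m j'))
    (hp : p ≫ chart 1 i = p' ≫ chart 1 i') (hq : q ≫ chart m j = q' ≫ chart m j') :
    ∃ c : Γ(W, ⊤), ∀ k, cc p' q' k = c * cc p q k := by
  obtain ⟨c, -, hc⟩ := exists_unit_coords p p' hp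
  obtain ⟨d, -, hd⟩ := exists_unit_coords q q' hq
  exact ⟨c * d, fun k => mulCoeff_scale c d _ _ _ _ hc hd k⟩

/-- a global section invertible at every point is a unit -/
theorem isUnit_of_basicOpen_eq_top {W : Scheme.{u}} (c : Γ(W, ⊤)) (h : W.basicOpen c = ⊤) : IsUnit c :=
  W.toRingedSpace.isUnit_of_isUnit_germ ⊤ c fun x hx => by
    have hx' : x ∈ W.basicOpen c := by rw [h]; trivial
    exact ((W.mem_basicOpen'' c x).1 hx').choose_spec

variable (m)

/-- the index set of the cover -/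
abbrev Idx : Type u := ULift.{u} ((Fin (1 + 1) × Fin (m + 1)) × Fin (m + 1 + 1))

/-- the part of a product chart where the `k`-th coefficient is invertible -/
noncomputable abbrev opn (t : Idx.{u} m) : (Chart2.{u} m t.down.1).Opens :=
  (Chart2.{u} m t.down.1).basicOpen (cc (pullback.fst _ _) (pullback.snd _ _) t.down.2)

theorem isUnit_cc (t : Idx.{u} m) :
    IsUnit (cc ((opn m t).ι ≫ pullback.fst _ _) ((opn m t).ι ≫ pullback.snd _ _) t.down.2) := by
  refine isUnit_of_basicOpen_eq_top _ ?_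
  rw [cc_comp]
  exact (Scheme.preimage_basicOpen_top (opn m t).ι _).symm.trans (Scheme.Opens.ι_preimage_self _)

/-- the cover of the product -/
noncomputable def cover : (PP.{u} 1 m).OpenCover where
  I₀ := Idx.{u} m
  X t := (opn m t).toScheme
  f t := (opn m t).ι ≫ chart2 t.down.1
  mem₀ := by
    rw [Scheme.ofArrows_mem_precoverage_iff]
    refine ⟨fun z => ?_, fun t => ?_⟩
    · obtain ⟨⟨ij⟩, w, rfl⟩ := (SegreX.cover.{u} (n := 1) (m := m)).exists_eq z
      change Chart2.{u} m ij at w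
      let p := pullback.fst (specULiftZIsTerminal.from (Spec (chartRing.{u} 1 ij.1)))
        (specULiftZIsTerminal.from (Spec (chartRing.{u} m ij.2)))
      let q := pullback.snd (specULiftZIsTerminal.from (Spec (chartRing.{u} 1 ij.1)))
        (specULiftZIsTerminal.from (Spec (chartRing.{u} m ij.2)))
      let ρ := ((Chart2.{u} m ij).evaluation ⊤ w trivial).hom
      obtain ⟨k, hk⟩ := exists_mulCoeff_ne_zero (fun i => ρ (coords p i)) (fun i => ρ (coords q i))
        (i := ij.1) (by rw [coords_self, map_one]) (j := ij.2) (by rw [coords_self, map_one])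
      rw [← map_mulCoeff] at hk
      refine ⟨⟨(ij, k)⟩, ⟨w, ?_⟩, rfl⟩
      show w ∈ (Chart2.{u} m ij).basicOpen (cc p q k)
      simpa [ρ, cc] using hk
    · haveI := isOpenImmersion_chart2.{u} t.down.1
      infer_instance

/-- Multiplication of binary forms. -/
noncomputable def mul : PP.{u} 1 m ⟶ PZ.{u} (m + 1) :=
  (cover.{u} m).glueMorphisms
    (fun t => ptS (cc ((opn m t).ι ≫ pullback.fst _ _) ((opn m t).ι ≫ pullback.snd _ _)) t.down.2 (isUnit_cc m t))
    fun a b => by
      let f := pullback.fst ((cover.{u} m).f a) ((cover.{u} m).f b)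
      let g := pullback.snd ((cover.{u} m).f a) ((cover.{u} m).f b)
      have h : f ≫ (opn m a).ι ≫ chart2 a.down.1 = g ≫ (opn m b).ι ≫ chart2 b.down.1 := pullback.condition
      have h1 := h =≫ pullback.fst _ _
      have h2 := h =≫ pullback.snd _ _
      simp only [Category.assoc, pullback.lift_fst, pullback.lift_snd] at h1 h2
      obtain ⟨c, hc⟩ := cc_scale (f ≫ (opn m a).ι ≫ pullback.fst _ _) (f ≫ (opn m a).ι ≫ pullback.snd _ _)
        (g ≫ (opn m b).ι ≫ pullback.fst _ _) (g ≫ (opn m b).ι ≫ pullback.snd _ _)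
        (by simpa only [Category.assoc] using h1) (by simpa only [Category.assoc] using h2)
      show f ≫ ptS _ _ _ = g ≫ ptS _ _ _
      rw [comp_ptS, comp_ptS]
      exact (ptS_scale _ _ c (fun l => by rw [← cc_comp, ← cc_comp]; exact hc l) _ _ _ _).symm

variable {m}

theorem lift_mul {W : Scheme.{u}} (ij : Fin (1 + 1) × Fin (m + 1)) (l : W ⟶ Chart2.{u} m ij)
    (k : Fin (m + 1 + 1)) (hk : IsUnit (cc (l ≫ pullback.fst _ _) (l ≫ pullback.snd _ _) k)) :
    l ≫ chart2 ij ≫ mul m = ptS (cc (l ≫ pullback.fst _ _) (l ≫ pullback.snd _ _)) k hk := by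
  let t : Idx.{u} m := ⟨(ij, k)⟩
  have hr : Set.range l ⊆ Set.range (opn m t).ι := by
    rintro _ ⟨w, rfl⟩
    rw [Scheme.Opens.range_ι]
    show w ∈ l ⁻¹ᵁ (Chart2.{u} m ij).basicOpen _
    rw [Scheme.preimage_basicOpen_top, ← cc_comp, W.basicOpen_of_isUnit hk]
    trivial
  obtain ⟨l', rfl⟩ : ∃ l', l' ≫ (opn m t).ι = l :=
    ⟨IsOpenImmersion.lift (opn m t).ι l hr, IsOpenImmersion.lift_fac _ _ _⟩
  have h0 : (opn m t).ι ≫ chart2 ij ≫ mul m = _ :=
    (Category.assoc _ _ _).symm.trans (Scheme.Cover.ι_glueMorphisms (cover.{u} m) _ _ t)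
  rw [Category.assoc, h0, comp_ptS]
  congr 1
  funext a
  rw [← cc_comp, Category.assoc, Category.assoc]

variable (m)

theorem mul_preimage (k : Fin (m + 1 + 1)) :
    mul.{u} m ⁻¹ᵁ Proj.basicOpen (CohB1.polyGrading (m + 1) (ULift.{u} ℤ)) (X k) =
      segre.{u} (segEquiv m) ⁻¹ᵁ Proj.basicOpen (CohB1.polyGrading (1 * m + 1 + m) (ULift.{u} ℤ)) (form m k) := by
  apply TopologicalSpace.Opens.ext
  ext z
  obtain ⟨t, v, rfl⟩ := (cover.{u} m).exists_eq z
  change (opn m t).toScheme at v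
  change v ∈ (((opn m t).ι ≫ chart2 t.down.1) ≫ mul.{u} m) ⁻¹ᵁ _ ↔
    v ∈ (((opn m t).ι ≫ chart2 t.down.1) ≫ segre.{u} (segEquiv m)) ⁻¹ᵁ _
  rw [Category.assoc, Category.assoc,
    lift_mul t.down.1 (opn m t).ι t.down.2 (isUnit_cc m t), chart2_segre, comp_loc, loc]
  erw [ptS_preimage]
  unfold ptS
  erw [pt_preimage_basicOpen (CohB1.polyGrading (1 * m + 1 + m) (ULift.{u} ℤ)) _ (X_mem _) one_pos _ (form_mem m k) one_pos]
  rw [form, map_sum]
  simp only [eval₂Hom_X', prodCoords, Equiv.apply_symm_apply]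
  rfl

theorem isAffineHom_mul : IsAffineHom (mul.{u} m) := by
  refine isAffineHom_of_forall_exists_isAffineOpen _ fun x => ?_
  obtain ⟨k, hk⟩ := exists_mem_chart x
  rw [range_chart] at hk
  refine ⟨Proj.basicOpen (CohB1.polyGrading (m + 1) (ULift.{u} ℤ)) (X k), hk,
    Proj.isAffineOpen_basicOpen _ _ (X_mem k) one_pos, ?_⟩
  rw [mul_preimage]
  haveI := isClosedImmersion_segre.{u} (segEquiv m)
  exact (Proj.isAffineOpen_basicOpen _ _ (form_mem m k) one_pos).preimage _

theorem isProper_mul : IsProper (mul.{u} m) := by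
  haveI : ∀ n : ℕ, IsProper (specULiftZIsTerminal.from (PZ.{u} n)) := fun n => by
    rw [specULiftZIsTerminal.hom_ext (specULiftZIsTerminal.from (PZ.{u} n))
      (CohB1.ProjSpace.toSpec n (ULift.{u} ℤ))]
    exact PnCoh.Chow.isProper_toSpec n _
  haveI : IsProper (mul.{u} m ≫ specULiftZIsTerminal.from (PZ.{u} (m + 1))) := by
    rw [specULiftZIsTerminal.hom_ext (mul.{u} m ≫ _) (pullback.fst _ _ ≫ specULiftZIsTerminal.from (PZ.{u} 1))]
    infer_instance
  exact IsProper.of_comp _ (specULiftZIsTerminal.from (PZ.{u} (m + 1)))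

theorem isFinite_mul : IsFinite (mul.{u} m) :=
  IsFinite.iff_isProper_and_isAffineHom.2 ⟨isProper_mul m, isAffineHom_mul m⟩

theorem surjective_mul : Surjective (mul.{u} m) := by
  refine ⟨fun x => ?_⟩
  obtain ⟨k, y, rfl⟩ := exists_mem_chart x
  let K : Type u := AlgebraicClosure ((Spec (chartRing.{u} (m + 1) k)).residueField y)
  let W : Scheme.{u} := Spec (CommRingCat.of K)
  let h : W ⟶ Spec (chartRing.{u} (m + 1) k) :=
    Spec.map (CommRingCat.ofHom (algebraMap ((Spec (chartRing.{u} (m + 1) k)).residueField y) K)) ≫ (Spec (chartRing.{u} (m + 1) k)).fromSpecResidueField y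
  let ε : K ≃+* Γ(W, ⊤) := (Scheme.ΓSpecIso (CommRingCat.of K)).symm.commRingCatIsoToRingEquiv
  obtain ⟨a, b, i, j, hai, hbj, hab⟩ := exists_factor (fun l => ε.symm (coords h l)) (k := k)
    (by rw [coords_self, map_one]; exact one_ne_zero)
  let mk : ∀ {r : ℕ} (v : Fin (r + 1) → K) (i : Fin (r + 1)), v i ≠ 0 →
      {p : W ⟶ Spec (chartRing.{u} r i) // ∀ l, coords p l = ε (v l / v i)} := fun {r} v i hv => by
    have hu : eval₂Hom (z0 Γ(W, ⊤)) (fun l => ε (v l / v i)) (X i) = 1 := by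
      rw [eval₂Hom_X', div_self hv, map_one]
    refine ⟨W.toSpecΓ ≫ Spec.map (CommRingCat.ofHom (coordHom (CohB1.polyGrading r (ULift.{u} ℤ))
      (eval₂Hom (z0 Γ(W, ⊤)) (fun l => ε (v l / v i))) (by rw [hu]; exact isUnit_one))), fun l => ?_⟩
    rw [coords, Scheme.Hom.comp_appTop, Scheme.toSpecΓ_appTop]
    simp only [← Category.assoc]
    rw [← Scheme.ΓSpecIso_inv_naturality]
    simp only [Category.assoc, Iso.inv_hom_id, Category.comp_id]
    exact (coordHom_crd _ _ _ hu l).trans (eval₂Hom_X' _ _ _)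
  obtain ⟨p, hp⟩ := mk a i hai
  obtain ⟨q, hq⟩ := mk b j hbj
  let l : W ⟶ Chart2.{u} m (i, j) := pullback.lift p q (specULiftZIsTerminal.hom_ext _ _)
  have hcc : ∀ r, cc (l ≫ pullback.fst _ _) (l ≫ pullback.snd _ _) r = ε (1 / (a i * b j)) * coords h r := fun r => by
    have h1 : mulCoeff (fun r => a r / a i) (fun r => b r / b j) r = 1 / (a i * b j) * mulCoeff a b r := by
      rw [mulCoeff_scale (1 / a i) (1 / b j) a (fun r => a r / a i) b (fun r => b r / b j)
        (fun r => by ring) (fun r => by ring) r, div_mul_div_comm, one_mul]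
    have h2 : coords h r = ε (mulCoeff a b r) := by rw [hab, RingEquiv.apply_symm_apply]
    rw [pullback.lift_fst, pullback.lift_snd, cc, h2, ← map_mul, ← h1]
    refine Eq.trans ?_ (map_mulCoeff ε.toRingHom _ _ r).symm
    exact congrArg₂ (fun f g => mulCoeff f g r) (funext hp) (funext hq)
  have hk : IsUnit (cc (l ≫ pullback.fst _ _) (l ≫ pullback.snd _ _) k) := by
    rw [hcc, coords_self, mul_one]
    exact (one_div_ne_zero (mul_ne_zero hai hbj)).isUnit.map ε
  have e : l ≫ chart2 (i, j) ≫ mul m = h ≫ chart (m + 1) k := by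
    rw [lift_mul (i, j) l k hk, chart, chart_eq_ptS]
    exact ptS_scale _ _ _ hcc _ _ _ _
  let w : W := IsLocalRing.closedPoint K
  refine ⟨chart2 (i, j) (l w), ?_⟩
  rw [← Scheme.Hom.comp_apply, ← Scheme.Hom.comp_apply, e, Scheme.Hom.comp_apply, Scheme.Hom.comp_apply]
  exact congrArg _ (Scheme.fromSpecResidueField_apply y _)

end Groth.Agent.BinForm
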